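import Groth.Agent.RHomOLib.Ext
import Groth.Agent.PerfDualLib.PseudoC
import Groth.Agent.PerfDualLib.CohPC
import Groth.Agent.KiehlLib.RestrLift
import Groth.Agent.BidualSchLib.Exists
import Groth.Agent.KFlatLib.DerivedTensor
import Groth.Agent.CohLib.ModNull
import Groth.Prelude.Def_CohB1

/-!
# Coherence of Ext sheaves, with supports
-/

set_option autoImplicit false
set_option linter.style.haveILetI false
set_option maxHeartbeats 1000000
set_option backward.isDefEq.respectTransparency false
set_option backward.isDefEq.respectTransparency.types false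

universe u

open CategoryTheory CategoryTheory.Limits AlgebraicGeometry Opposite

attribute [local instance] HasDerivedCategory.standard

namespace Groth.Agent.ExtCohLib

/-- Ext sheaves of coherent modules are coherent. -/
theorem isCoh_extSh (X : Scheme.{u}) [IsLocallyNoetherian X] (F G : X.Modules)
    (hF : Coh.IsCoh F) (hG : Coh.IsCoh G)
    [ModSite.HasSheafHom (O := X.sheaf) F] [HasInjectiveResolutions (ModSite.Mod X.sheaf)] (i : ℕ) :
    Coh.IsCoh ((ModSite.extSh (O := X.sheaf) F i).obj G) := by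
  haveI : HasInjectiveResolutions X.Modules := ‹HasInjectiveResolutions (ModSite.Mod X.sheaf)›
  let K := FMKLib.oneCx F
  haveI : DCoh.HasLTensorCx K := KFlatLib.hasLTensorCx K
  haveI : DCoh.HasRSheafHom K := BidualSchLib.hasRSheafHom K
  let I := InjectiveResolution.of G
  obtain ⟨e⟩ := ExtShLib.nonempty_extSh_iso I F i
  obtain ⟨e'⟩ := (RHomOLib.nonempty_HD_rSheafHom_hcx F I).2 i
  haveI : (DerivedCategory.Q.obj K).IsLE 0 :=
    DerivedCategory.TStructure.t.isLE_of_iso (FMKLib.oneCxIso F).symm 0
  have hK : DCoh.IsCohD (DCoh.toD X K) := fun q =>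
    QCohLib.isCoh_of_iso ((DerivedCategory.homologyFunctor X.Modules q).mapIso (FMKLib.oneCxIso F)).symm
      (KiehlLib.isCohD_single_noeth 0 hF q)
  have h := PerfDualLib.isCoh_HD_rSheafHom_of_isPC K (m := -(i : ℤ) - 1)
    (PerfDualLib.isPC_of_isCohD (DCoh.toD X K) 0 _ hK) (DCoh.inD X G) (KiehlLib.isCohD_single_noeth 0 hG) 0
    i (by omega)
  exact QCohLib.isCoh_of_iso (e' ≪≫ e.symm) h

theorem restr_homMod_id_eq_zero {X : Scheme.{u}} (U : X.Opens) (F N : X.Modules)
    (hsupp : ∀ x ∈ CohB1.support F, x ∉ (U : Set X)) :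
    (ModSite.restr X.sheaf U).map (𝟙 (CohCmpLib.homMod F N : ModSite.Mod X.sheaf)) = 0 := by
  refine (CohLib.restr_map_eq_zero_iff (O := X.sheaf) U _).2 fun V ⟨g⟩ m => ?_
  show m = 0
  refine CohCmpLib.homMod_ext fun y hy => LinearMap.ext fun a => ?_
  have hs : Subsingleton (F.presheaf.stalk y) := by
    by_contra h
    exact hsupp y h ((show V.unop ⟶ U from g).le hy)
  rw [show a = 0 from @Subsingleton.elim _ hs a 0]
  exact (map_zero _).trans (map_zero _).symm

/-- Ext with supports of modules supported in the closed set are the Ext sheaves. -/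
theorem nonempty_extZSh_iso {X : Scheme.{u}} (U : X.Opens) (F G : X.Modules)
    (hsupp : ∀ x ∈ CohB1.support F, x ∉ (U : Set X))
    [ModSite.HasSheafHom (O := X.sheaf) F] [HasInjectiveResolutions (ModSite.Mod X.sheaf)] (i : ℕ) :
    Nonempty ((ModSite.extZSh (O := X.sheaf) U F i).obj G ≅ (ModSite.extSh (O := X.sheaf) F i).obj G) := by
  let T := ModSite.sheafHom (O := X.sheaf) F
  have hz : ∀ N, IsZero ((ModSite.restr X.sheaf U).obj (T.obj N)) := fun N => by
    refine IsZero.of_iso ((IsZero.iff_id_eq_zero _).2 ?_) ((ModSite.restr X.sheaf U).mapIso ((ExtShLib.shIso F).app N))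
    rw [← CategoryTheory.Functor.map_id]
    exact restr_homMod_id_eq_zero U F N hsupp
  have hiso : ∀ N, IsIso ((ModSite.sectOnι X.sheaf U).app (T.obj N)) := fun N => by
    have h0 : (ModSite.restrPushOverAdj X.sheaf U).unit.app (T.obj N) = 0 := by
      haveI : (ModSite.pushOver X.sheaf U).IsRightAdjoint := (ModSite.restrPushOverAdj X.sheaf U).isRightAdjoint
      exact ((ModSite.pushOver X.sheaf U).map_isZero (hz N)).eq_of_tgt _ _
    show IsIso (kernel.ι ((ModSite.restrPushOverAdj X.sheaf U).unit.app (T.obj N)))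
    exact isIso_limit_cone_parallelPair_of_eq h0 (limit.isLimit _)
  let I : InjectiveResolution (show ModSite.Mod X.sheaf from G) := InjectiveResolution.of _
  let ν : T ⋙ ModSite.sectOn X.sheaf U ≅ T :=
    NatIso.ofComponents (fun N => @asIso _ _ _ _ _ (hiso N))
      fun {N N'} φ => (ModSite.sectOnι X.sheaf U).naturality (T.map φ)
  let β : ((T ⋙ ModSite.sectOn X.sheaf U).mapHomologicalComplex _).obj I.cocomplex ≅
      (T.mapHomologicalComplex _).obj I.cocomplex :=
    HomologicalComplex.Hom.isoOfComponents (fun k => ν.app _) fun k l _ => (ν.hom.naturality _).symm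
  exact ⟨I.isoRightDerivedObj (T ⋙ ModSite.sectOn X.sheaf U) i ≪≫
    (HomologicalComplex.homologyFunctor _ (ComplexShape.up ℕ) i).mapIso β ≪≫ (I.isoRightDerivedObj T i).symm⟩

end Groth.Agent.ExtCohLib
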