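import Groth.Agent.CommAlgDim.Depth
import Mathlib.RingTheory.Depth.Rees
import Mathlib.Algebra.Category.ModuleCat.Ext.Basic

/-!
# Vanishing of Ext and regular sequences, without properness hypotheses
-/

set_option autoImplicit false

universe u

open CategoryTheory Abelian RingTheory.Sequence Pointwise CommAlgDim

namespace Groth.Agent.ExtCohLib

variable {R : Type u} [CommRing R] [IsNoetherianRing R] (I : Ideal R) {M N : ModuleCat.{u} R}
  [Module.Finite R M] [Module.Finite R N] (n : ℕ)

theorem subsingleton_ext_of_smul_top_eq_top (hN : Module.support R N ⊆ PrimeSpectrum.zeroLocus I)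
    (h : I • (⊤ : Submodule R M) = ⊤) (i : ℕ) : Subsingleton (Ext N M i) := by
  obtain ⟨a, haI, ha⟩ := Submodule.exists_mem_and_smul_eq_self_of_fg_of_le_smul I
    (⊤ : Submodule R M) Module.Finite.fg_top h.ge
  rw [Module.support_eq_zeroLocus, PrimeSpectrum.zeroLocus_subset_zeroLocus_iff] at hN
  obtain ⟨k, hk⟩ := hN haI
  have hpow : ∀ (j : ℕ) (m : M), a ^ j • m = m := fun j => by
    induction j with
    | zero => simp
    | succ j ih => intro m; rw [pow_succ, mul_smul, ha m trivial, ih]
  have hM : a ^ k • 𝟙 M = 𝟙 M := by ext m; exact hpow k m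
  have hNz : a ^ k • 𝟙 N = 0 := by ext m; exact Module.mem_annihilator.mp hk m
  refine subsingleton_of_forall_eq 0 fun x => ?_
  have h1 : a ^ k • x = x := by
    rw [Ext.smul_eq_comp_mk₀, hM, Ext.comp_mk₀_id]
  rw [← h1, ← Ext.mk₀_id_comp x, ← Ext.smul_comp, ← Ext.mk₀_smul, hNz, Ext.mk₀_zero, Ext.zero_comp]

theorem subsingleton_ext_of_hasSeqIn (hN : Module.support R N ⊆ PrimeSpectrum.zeroLocus I)
    (h : HasSeqIn I M n) (i : ℕ) (hi : i < n) : Subsingleton (Ext N M i) := by
  by_cases htop : I • (⊤ : Submodule R M) = ⊤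
  · exact subsingleton_ext_of_smul_top_eq_top I hN htop i
  obtain ⟨rs, rfl, hm, hr⟩ := h
  have hreg : IsRegular M rs := ⟨hr, fun he => htop (top_le_iff.1 (he.le.trans
    (Submodule.smul_mono_left (Ideal.span_le.2 hm))))⟩
  exact ModuleCat.subsingleton_ext_of_exists_isRegular I N hN M (lt_top_iff_ne_top.2 htop) rs hm hreg i hi

theorem hasSeqIn_of_subsingleton_ext (hN : Module.support R N = PrimeSpectrum.zeroLocus I)
    (h : ∀ i < n, Subsingleton (Ext N M i)) : HasSeqIn I M n := by
  by_cases htop : I • (⊤ : Submodule R M) = ⊤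
  · exact hasSeqIn_of_smul_top_eq_top htop n
  obtain ⟨rs, hl, hm, hr⟩ :=
    ModuleCat.exists_isRegular_of_exists_subsingleton_ext I n M (lt_top_iff_ne_top.2 htop) N hN h
  exact ⟨rs, hl, hm, hr.toIsWeaklyRegular⟩

end Groth.Agent.ExtCohLib
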