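import Groth.Agent.ExtCohLib.Basic
import Groth.Agent.ExtCohLib.Rees
import Groth.Agent.ExtAffLib.Sections
import Groth.Agent.LocSuppLib.DepthStalk
import Groth.Agent.AVAmpleLib.CartierSection

/-!
# Depth and the vanishing of Ext sheaves
-/

set_option autoImplicit false
set_option linter.style.haveILetI false
set_option maxHeartbeats 1000000
set_option synthInstance.maxHeartbeats 200000
set_option backward.isDefEq.respectTransparency false
set_option backward.isDefEq.respectTransparency.types false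

universe u

open CategoryTheory CategoryTheory.Limits AlgebraicGeometry TopologicalSpace Opposite

namespace Groth.Agent.ExtCohLib

variable {X : Scheme.{u}} {W : X.Opens} (hW : IsAffineOpen W)

include hW in
theorem mem_support_sections_iff (M : X.Modules) [Coh.IsQCoh M] {x : X} (hx : x ∈ W) :
    hW.primeIdealOf ⟨x, hx⟩ ∈ Module.support Γ(X, W) Γ(M, W) ↔ x ∈ CohB1.support M := by
  letI := Module.compHom (M.presheaf.stalk x) (X.presheaf.germ W x hx).hom
  haveI := FlatLib.isLocalizedModule_germLin M hW hx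
  let e := IsLocalizedModule.iso (hW.primeIdealOf ⟨x, hx⟩).asIdeal.primeCompl (FlatLib.germLin M hx)
  rw [Module.mem_support_iff]
  refine Iff.trans ?_ not_subsingleton_iff_nontrivial.symm
  exact ⟨fun _ => e.toEquiv.symm.nontrivial, fun _ => e.toEquiv.nontrivial⟩

include hW in
theorem exists_point (p : PrimeSpectrum Γ(X, W)) :
    ∃ (x : X) (hx : x ∈ W), hW.primeIdealOf ⟨x, hx⟩ = p := by
  have hx : hW.fromSpec p ∈ W := by
    have : hW.fromSpec p ∈ (hW.fromSpec.opensRange : Set X) := ⟨p, rfl⟩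
    rwa [hW.opensRange_fromSpec] at this
  exact ⟨_, hx, hW.fromSpec.isOpenEmbedding.injective (hW.fromSpec_primeIdealOf ⟨_, hx⟩)⟩

include hW in
theorem mem_iff_not_le (U : X.Opens) (fs : List Γ(X, W))
    (hU : (⨆ a : Fin fs.length, X.basicOpen (fs.get a)) = U ⊓ W) {x : X} (hx : x ∈ W) :
    x ∈ U ↔ ¬ Ideal.span (Set.range fs.get) ≤ (hW.primeIdealOf ⟨x, hx⟩).asIdeal := by
  rw [Ideal.span_le, Set.range_subset_iff, not_forall]
  constructor
  · intro hxU
    obtain ⟨a, ha⟩ := Opens.mem_iSup.mp (show x ∈ ⨆ a : Fin fs.length, X.basicOpen (fs.get a) from hU.symm ▸ (⟨hxU, hx⟩ : x ∈ U ⊓ W))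
    exact ⟨a, (AssPointLib.mem_basicOpen_iff hW hx _).mp ha⟩
  · rintro ⟨a, ha⟩
    exact (hU.le (Opens.mem_iSup.mpr ⟨a, (AssPointLib.mem_basicOpen_iff hW hx _).mpr ha⟩)).1

variable [IsLocallyNoetherian X] (U : X.Opens) {F G : X.Modules} (hF : Coh.IsCoh F) (hG : Coh.IsCoh G)
  [ModSite.HasSheafHom (O := X.sheaf) G] [HasInjectiveResolutions (ModSite.Mod X.sheaf)]

include hF hG in
theorem isZero_extSh_of_depth (hsupp : ∀ x ∈ CohB1.support G, x ∉ (U : Set X)) (n : ℕ)
    (h : ∀ x : X, x ∉ (U : Set X) → (n : ℕ∞) ≤ LocCoh.depth (X.presheaf.stalk x) (F.presheaf.stalk x))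
    (i : ℕ) (hi : i < n) : IsZero ((ModSite.extSh (O := X.sheaf) G i).obj F) := by
  have hE := isCoh_extSh X G F hG hF i
  let E : X.Modules := (ModSite.extSh (O := X.sheaf) G i).obj F
  haveI : Coh.IsQCoh E := hE.1
  refine KFlatLib.isZero_of_stalks fun x => ?_
  obtain ⟨W, hW, hxW⟩ := QCohLib.exists_affine_nhd x
  haveI : IsNoetherianRing Γ(X, W) := IsLocallyNoetherian.component_noetherian ⟨W, hW⟩
  haveI := hF.1
  haveI := hG.1
  haveI : Module.Finite Γ(X, W) Γ(G, W) := QCohLib.finite_of_isFT hG.2 hW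
  haveI : Module.Finite Γ(X, W) Γ(F, W) := QCohLib.finite_of_isFT hF.2 hW
  obtain ⟨fs, hfs⟩ := LocSuppLib.exists_list_cover U hW
  obtain ⟨e⟩ := ExtAffLib.nonempty_sections_extSh hW G F i
  haveI : Subsingleton (Abelian.Ext (ModuleCat.of Γ(X, W) Γ(G, W)) (ModuleCat.of Γ(X, W) Γ(F, W)) i) := by
    refine subsingleton_ext_of_hasSeqIn (M := ModuleCat.of Γ(X, W) Γ(F, W)) (N := ModuleCat.of Γ(X, W) Γ(G, W))
      (Ideal.span (Set.range fs.get)) n ?_
      ((LocSuppLib.hasSeqIn_iff_depth_stalk U hF hW fs hfs n).2 fun y _ hy => h y hy) i hi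
    intro p hp
    obtain ⟨y, hy, rfl⟩ := exists_point hW p
    rw [PrimeSpectrum.mem_zeroLocus, SetLike.coe_subset_coe]
    exact not_not.1 fun h' => hsupp y ((mem_support_sections_iff hW G hy).1 hp) ((mem_iff_not_le hW U fs hfs hy).2 h')
  haveI : Subsingleton Γ(E, W) := e.toEquiv.subsingleton
  letI := Module.compHom (E.presheaf.stalk x) (X.presheaf.germ W x hxW).hom
  haveI := FlatLib.isLocalizedModule_germLin E hW hxW
  show Subsingleton (E.presheaf.stalk x)
  exact (IsLocalizedModule.iso (hW.primeIdealOf ⟨x, hxW⟩).asIdeal.primeCompl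
    (FlatLib.germLin E hxW)).toEquiv.symm.subsingleton

include hF hG in
theorem depth_of_isZero_extSh (hsupp : CohB1.support G = (U : Set X)ᶜ) (n : ℕ)
    (h : ∀ i : ℕ, i < n → IsZero ((ModSite.extSh (O := X.sheaf) G i).obj F)) (x : X) (hx : x ∉ (U : Set X)) :
    (n : ℕ∞) ≤ LocCoh.depth (X.presheaf.stalk x) (F.presheaf.stalk x) := by
  obtain ⟨W, hW, hxW⟩ := QCohLib.exists_affine_nhd x
  haveI : IsNoetherianRing Γ(X, W) := IsLocallyNoetherian.component_noetherian ⟨W, hW⟩
  haveI := hF.1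
  haveI := hG.1
  haveI : Module.Finite Γ(X, W) Γ(G, W) := QCohLib.finite_of_isFT hG.2 hW
  haveI : Module.Finite Γ(X, W) Γ(F, W) := QCohLib.finite_of_isFT hF.2 hW
  obtain ⟨fs, hfs⟩ := LocSuppLib.exists_list_cover U hW
  refine (LocSuppLib.hasSeqIn_iff_depth_stalk U hF hW fs hfs n).1 ?_ x hxW hx
  refine hasSeqIn_of_subsingleton_ext (M := ModuleCat.of Γ(X, W) Γ(F, W)) (N := ModuleCat.of Γ(X, W) Γ(G, W)) _ n ?_ fun i hi => ?_
  · ext p
    obtain ⟨y, hy, rfl⟩ := exists_point hW p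
    rw [PrimeSpectrum.mem_zeroLocus, SetLike.coe_subset_coe]
    refine (mem_support_sections_iff hW G hy).trans ?_
    rw [hsupp, Set.mem_compl_iff, SetLike.mem_coe, mem_iff_not_le hW U fs hfs hy, not_not]
  · obtain ⟨e⟩ := ExtAffLib.nonempty_sections_extSh hW G F i
    haveI : Subsingleton Γ(((ModSite.extSh (O := X.sheaf) G i).obj F : X.Modules), W) :=
      AddCommGrpCat.subsingleton_of_isZero
        (((SheafOfModules.toSheaf X.ringCatSheaf) ⋙ sheafToPresheaf _ _ ⋙ (evaluation _ _).obj (op W)).map_isZero (h i hi))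
    exact e.toEquiv.symm.subsingleton

end Groth.Agent.ExtCohLib
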